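/-
Kernel checks on 276 points, Basic.
-/
import Cfsg.Agent.Lib.Co3Recog.DefsM
import Cfsg.Agent.Lib.Co3Recog.EnumH.Data
import Cfsg.Agent.Lib.Co3Recog.EnumG.Data

set_option autoImplicit false
set_option maxRecDepth 200000
set_option maxHeartbeats 4000000

namespace CfsgLib.Co3Recog.Data

open CfsgPC Base

theorem m_perm : permsB 276 mLetters mInv = true ∧ mLetters.length = 7 ∧
    permsB 276 [tM, sM, uM] [tM, sM, uM] = true ∧ permsB 276 xInM xInM = true ∧
    ((List.range 7).all fun a => (List.range 276).all fun i => Nat.beq (ap (ml a) (ap (ml a) i)) i) = true := by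
  decide +kernel

theorem m_perm_two : permsB 276 cuGens cuInv = true ∧ permsB 276 cuBoth cuBothInv = true ∧
    permsB 276 suGens suInv = true ∧ permsB 276 cvGens cvInv = true ∧ permsB 276 tTwoGens tTwoInv = true ∧
    isPerm 276 vC.1 vC.2 = true ∧ isPerm 276 rC.1 rC.2 = true ∧ isPerm 276 gC.1 gC.2 = true ∧
    isPerm 276 hC3.1 hC3.2 = true ∧ (aElems.all fun x => isPerm 276 (cut x) (cut x)) = true := by decide +kernel

theorem m_block : blockB 0 276 xGens xInM = true := by decide +kernel

theorem m_sift : siftsB 276 CfsgLeech.Models.co3Chain mLetters = true ∧ sizeOfChain mChain = 495766656000 ∧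
    (mBases.all fun b => Nat.blt b 276) = true := by decide +kernel

theorem cu_ok : tableB 276 cuChain cuGens = true ∧ sizeOfChain cuChain = 190080 ∧
    inCentB cuGens [uM] = true := by decide +kernel

theorem su_ok : tableB 276 suChain suGens = true ∧ closedAll 276 mBases suChain suGens = true ∧
    sizeOfChain suChain = 128 ∧ inCentB suGens [uM] = true := by decide +kernel

theorem cu_cert : cuCert.length = (allIdx suChain).length ∧ ((allIdx suChain).zip cuCert).all cuB = true := by
  decide +kernel

theorem cv_ok : inCentB [vC.1] [uM, tM] = true ∧ distinctB mBases cuGens cuInv vC.1 vWords = true ∧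
    vWords.length = 396 ∧ tableB 276 cvChain cvGens = true ∧ sizeOfChain cvChain = 480 ∧
    inCentB cvGens [uM, vC.1] = true := by decide +kernel

theorem t_two_ok : distinctB mBases cvGens cvInv tM tWords = true ∧ tWords.length = 15 ∧
    tableB 276 tTwoChain tTwoGens = true ∧ sizeOfChain tTwoChain = 32 ∧
    inCentB tTwoGens [uM, vC.1, tM] = true ∧ (allIdx tTwoChain).all tCenB = true := by decide +kernel

theorem four_ok : commM tM uM = true ∧ inFourB (ap tM) = false ∧ eqB mBases (ap vC.1) (ap uM) = false ∧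
    eqB mBases (ap vC.1) id = false ∧ eqB mBases (fun b => ap vC.1 (ap vC.1 b)) id = true ∧
    fixCount 276 (ap tM) = 36 ∧ fixCount 276 (ap uM) = 12 ∧ fixCount 276 (ap vC.1) = 12 ∧
    fixCount 276 (fun b => ap uM (ap vC.1 b)) = 12 ∧
    (vFour.all fun f => eqB mBases f id || Nat.beq (fixCount 276 fun b => ap tM (f b)) 12) = true ∧
    (vFour.all fun f => Nat.beq (fixCount 276 fun b => ap rC.1 (f b)) 12) = true := by decide +kernel

theorem wit_ok : inCentB [rC.1] [uM, vC.1, tM] = true ∧ inCentB [gC.1, hC3.1] [uM, vC.1] = true ∧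
    inFourB (ap rC.1) = false ∧ inFourB (fun b => ap rC.1 (ap rC.1 b)) = true ∧
    inFourB (fun b => ap gC.1 (ap gC.1 (ap tM b))) = true ∧
    eqB mBases (fun b => ap hC3.1 (ap hC3.1 (ap hC3.1 b))) id = true ∧
    eqB mBases (fun b => ap hC3.1 (ap tM (ap hC3.2 (ap tM b))))
      (fun b => ap tM (ap hC3.1 (ap tM (ap hC3.2 b)))) = true ∧
    inFourB (fun b => ap hC3.1 (ap tM (ap hC3.2 (ap tM b)))) = false ∧
    inFourB (fun b => ap hC3.1 (ap hC3.1 (ap tM (ap hC3.2 (ap hC3.2
      (ap hC3.1 (ap tM (ap hC3.2 (ap tM b))))))))) = true := by decide +kernel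

theorem rels_m : EnumH.rels.all relMB = true ∧ EnumG.rels.all relMB = true ∧
    EnumH.rels.all relKindB = true ∧ EnumG.rels.all relKindB = true := by decide +kernel

theorem fused_ok : eqB mBases (fun b => ap (ml 5) (ap tM (ap (ml 5) b))) (ap sM) = true ∧
    commM (ml 4) (ml 5) = true ∧ aConjB = true ∧ dZeroB = true := by decide +kernel

end CfsgLib.Co3Recog.Data
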