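/-
Kernel checks on 276 points, Fix.
-/
import Cfsg.Agent.Lib.Co3Recog.DefsM
import Cfsg.Agent.Lib.Co3Recog.EnumH.Data
import Cfsg.Agent.Lib.Co3Recog.EnumG.Data

set_option autoImplicit false
set_option maxRecDepth 200000
set_option maxHeartbeats 4000000

namespace CfsgLib.Co3Recog.Data

open CfsgPC Base

theorem fix_table : tableB 276 mFixChain mLetters = true := by decide +kernel

theorem fix_bound : Nat.ble (sizeOfChain mFixChain) 495766656000 = true ∧
    Nat.ble 495766656000 (sizeOfChain mFixChain) = true ∧ Nat.ble (keepBound 276 uFix mFixChain) 190080 = true ∧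
    ((List.range 276).all fun i => Nat.beq (ap uM i) i == uFix.contains i) = true := by decide +kernel

end CfsgLib.Co3Recog.Data
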