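/-
Kernel checks on 276 points, Tab.
-/
import Cfsg.Agent.Lib.Co3Recog.DefsM
import Cfsg.Agent.Lib.Co3Recog.EnumH.Data
import Cfsg.Agent.Lib.Co3Recog.EnumG.Data

set_option autoImplicit false
set_option maxRecDepth 200000
set_option maxHeartbeats 4000000

namespace CfsgLib.Co3Recog.Data

open CfsgPC Base

theorem m_table : tableB 276 mChain mLetters = true := by decide +kernel

end CfsgLib.Co3Recog.Data
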